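import Cfsg.Agent.Omega.NO3b.K0.Count
import Cfsg.Agent.Omega.NO3b.Alpha

/-!
# K0 over the full stabilisers (helper554 #18126, helper419 #18002 (3)), part 1

`V` (a line) is elementary abelian, not FF, `1 ≠ F ≤ V ≤ O₂(X)`, `X = C_G(F)` THE FULL CENTRALISER,
`V ∩ V^x = F` for `x ∈ X - N(V)`, two conjugates of `V` which meet nontrivially commute, `O₂(X) ≤ N(V)`,
no nontrivial 2-subgroup is normalised by `Λ = N_G(V)` and `X`. `U = ⟨V^X⟩`, `O = O₂(C_G(V))`.

* `Base V F` : this situation; `Base.of_lines` : from `NoEmp.Lines` and `Alpha.Fl`;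
* `lemW` : **LEMMA W**: a subgroup `A ≤ O` which centralises `U` lies in `O₂(C_G(U))`; `O₂(C_G(U)) ≤ O₂(X)` and
  `O₂(C_G(U)) ≤ O^x` for `x ∈ X`;
* `exists_crit` : a critical pair `(U, U^g)`: `[U, U^g] ≠ 1`, `U ≤ O^g`, `U^g ≤ O` (`K0.Crit V X O g`).
-/

set_option autoImplicit false

namespace Cfsg.Agent.Omega.NO3b.KFull

open Subgroup Cfsg Cfsg.Agent.ZN Cfsg.Agent.ZN.ChoiceBase Cfsg.Agent.ZN.ChoiceSit
open Cfsg.Agent.Omega.NO3b.EZero Cfsg.Agent.Omega.NO3b.NoEmp Cfsg.Agent.Omega.NO3b.K0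
open scoped commutatorElement

universe u

variable {G : Type u} [Group G]

/-- The situation. -/
structure Base (V F : Subgroup G) : Prop where
  sq : ∀ v ∈ V, v ^ 2 = 1
  comm : V ≤ centralizer (V : Set G)
  nff : NotFF V
  F_le : F ≤ V
  F_ne_bot : F ≠ ⊥
  low : V ≤ o2 (centralizer (F : Set G))
  norm : o2 (centralizer (F : Set G)) ≤ normalizer (V : Set G)
  line : ∀ x ∈ centralizer (F : Set G), x ∉ normalizer (V : Set G) → V ⊓ cj x V = F
  ti : ∀ g : G, V ⊓ cj g V ≠ ⊥ → V ≤ centralizer ((cj g V : Subgroup G) : Set G)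
  nonloc : ∀ R : Subgroup G, IsPGroup 2 R → normalizer (V : Set G) ≤ normalizer (R : Set G) →
    centralizer (F : Set G) ≤ normalizer (R : Set G) → R = ⊥

/-- `O = O₂(C_G(V))` -/
abbrev OV (V : Subgroup G) : Subgroup G := o2 (centralizer (V : Set G))

/-- `U = ⟨V^X⟩`, `X = C_G(F)` -/
abbrev UU (V F : Subgroup G) : Subgroup G := cl V (centralizer (F : Set G))

theorem cent_cj (g : G) (A : Subgroup G) :
    cj g (centralizer (A : Set G)) = centralizer ((cj g A : Subgroup G) : Set G) := cj_centralizer g A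

theorem o2_cent_cj (g : G) (A : Subgroup G) :
    cj g (o2 (centralizer (A : Set G))) = o2 (centralizer ((cj g A : Subgroup G) : Set G)) := by
  rw [← ChoiceSit.o2_cj, cj_centralizer]

theorem cj_OV (g : G) (V : Subgroup G) : cj g (OV V) = OV (cj g V) := o2_cent_cj g V

/-- `N_G(A)` normalises `O₂(C_G(A))` -/
theorem norm_o2_cent {A : Subgroup G} :
    normalizer (A : Set G) ≤ normalizer (o2 (centralizer (A : Set G)) : Set G) := by
  intro n hn
  rw [mem_normalizer_iff_cj, o2_cent_cj, cj_eq_of_mem_normalizer hn]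

namespace Base

variable {V F : Subgroup G} (h : Base V F)
include h

theorem cj_F {x : G} (hx : x ∈ centralizer (F : Set G)) : cj x F = F :=
  cj_eq_of_mem_normalizer (centralizer_le_normalizer _ hx)

theorem F_le_line {x : G} (hx : x ∈ centralizer (F : Set G)) : F ≤ cj x V := by
  have h1 := cj_mono x h.F_le
  rwa [h.cj_F hx] at h1

theorem V_le_X : V ≤ centralizer (F : Set G) := h.comm.trans (centralizer_le h.F_le)

theorem CV_le_X : centralizer (V : Set G) ≤ centralizer (F : Set G) := centralizer_le h.F_le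

theorem V_ne_bot : V ≠ ⊥ := fun h0 => h.F_ne_bot (le_bot_iff.1 (h.F_le.trans h0.le))

theorem ti' {a b : G} (hD : cj a V ⊓ cj b V ≠ ⊥) : cj a V ≤ centralizer ((cj b V : Subgroup G) : Set G) := by
  have h1 := h.ti (a⁻¹ * b) (by
    intro h0
    apply hD
    have h1 := congrArg (cj a) h0
    rw [cj_inf, cj_cj, mul_inv_cancel_left] at h1
    rw [h1, cj_bot'])
  have h2 := cj_cent (g := a) h1
  rwa [cj_cj, mul_inv_cancel_left] at h2

/-- `V^x ∩ V^y = F` -/
theorem line' {x y : G} (hx : x ∈ centralizer (F : Set G)) (hy : y ∈ centralizer (F : Set G))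
    (hne : cj x V ≠ cj y V) : cj x V ⊓ cj y V = F := by
  have h1 := h.line (x⁻¹ * y) (mul_mem (inv_mem hx) hy) (fun h0 => hne (by
    have h2 := congrArg (cj x) (mem_normalizer_iff_cj.1 h0)
    rw [cj_cj, mul_inv_cancel_left] at h2
    exact h2.symm))
  have h2 := congrArg (cj x) h1
  rw [cj_inf, cj_cj, mul_inv_cancel_left, h.cj_F hx] at h2
  exact h2

theorem lines_comm {x y : G} (hx : x ∈ centralizer (F : Set G)) (hy : y ∈ centralizer (F : Set G)) :
    cj x V ≤ centralizer ((cj y V : Subgroup G) : Set G) :=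
  h.ti' fun h0 => h.F_ne_bot (le_bot_iff.1 ((le_inf (h.F_le_line hx) (h.F_le_line hy)).trans h0.le))

theorem U_comm : UU V F ≤ centralizer (UU V F : Set G) :=
  cl_le fun _ hx => cent_symm (cl_le fun _ hy => h.lines_comm hy hx)

theorem cj_sq (g : G) : ∀ v ∈ cj g V, v ^ 2 = 1 := by
  intro v hv
  have h1 := h.sq _ (mem_cj.1 hv)
  have e : v ^ 2 = g * (g⁻¹ * v * g) ^ 2 * g⁻¹ := by rw [pow_two, pow_two]; group
  rw [e, h1]; group

theorem U_sq : ∀ u ∈ UU V F, u ^ 2 = 1 :=
  sq_of_comm h.U_comm (fun i : centralizer (F : Set G) => cj_le_cl i.2) le_rfl fun i => h.cj_sq i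

theorem isPGroup_U : IsPGroup 2 (UU V F) := fun x => ⟨1, Subtype.ext (by simpa using h.U_sq x x.2)⟩

theorem isPGroup_V : IsPGroup 2 V := h.isPGroup_U.to_le (le_cl V _)

theorem U_le_X : UU V F ≤ centralizer (F : Set G) := cl_le fun x hx => by
  have h1 := cj_mono x h.V_le_X
  rwa [cj_self hx] at h1

/-- `C_G(U) ≤ X` -/
theorem CU_le_X : centralizer (UU V F : Set G) ≤ centralizer (F : Set G) :=
  centralizer_le (h.F_le.trans (le_cl V _))

omit h in
theorem CU_le_line {x : G} (hx : x ∈ centralizer (F : Set G)) :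
    centralizer (UU V F : Set G) ≤ centralizer ((cj x V : Subgroup G) : Set G) :=
  centralizer_le (cj_le_cl hx)

omit h in
theorem CU_le_CV : centralizer (UU V F : Set G) ≤ centralizer (V : Set G) := centralizer_le (le_cl V _)

/-- `C_G(V^x) ≤ X` -/
theorem Cline_le_X {x : G} (hx : x ∈ centralizer (F : Set G)) :
    centralizer ((cj x V : Subgroup G) : Set G) ≤ centralizer (F : Set G) := centralizer_le (h.F_le_line hx)

omit h in
/-- `X` normalises `C_G(U)` and `O₂(C_G(U))` -/
theorem X_norm_o2CU : centralizer (F : Set G) ≤ normalizer (o2 (centralizer (UU V F : Set G)) : Set G) :=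
  (le_normalizer_cl V _).trans norm_o2_cent

variable [Finite G]

omit h in
/-- **LEMMA W**, first half -/
theorem lemW {A : Subgroup G} (hA : A ≤ OV V) (hAU : A ≤ centralizer (UU V F : Set G)) :
    A ≤ o2 (centralizer (UU V F : Set G)) := by
  refine (le_inf hA hAU).trans (ChoiceSit.le_o2 ((ChoiceSit.isPGroup_o2 _).to_le inf_le_left) inf_le_right ?_)
  intro y hy
  rw [mem_normalizer_iff_cj, cj_inf, cj_self hy,
    cj_of_le (ChoiceSit.le_normalizer_o2 (centralizer (V : Set G))) (CU_le_CV hy)]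

/-- **LEMMA W**, second half: `O₂(C_G(U)) ≤ O₂(X)` -/
theorem o2CU_le_o2X : o2 (centralizer (UU V F : Set G)) ≤ o2 (centralizer (F : Set G)) :=
  ChoiceSit.le_o2 (ChoiceSit.isPGroup_o2 _) ((ChoiceSit.o2_le _).trans h.CU_le_X) X_norm_o2CU

/-- **LEMMA W**, third part: `O₂(C_G(U)) ≤ O^x` -/
theorem o2CU_le_O {x : G} (hx : x ∈ centralizer (F : Set G)) :
    o2 (centralizer (UU V F : Set G)) ≤ cj x (OV V) := by
  rw [cj_OV]
  exact ChoiceSit.le_o2 (ChoiceSit.isPGroup_o2 _) ((ChoiceSit.o2_le _).trans (CU_le_line hx))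
    ((h.Cline_le_X hx).trans X_norm_o2CU)

/-- every line through `F` lies in `O₂(X)` -/
theorem line_le_o2 {x : G} (hx : x ∈ centralizer (F : Set G)) : cj x V ≤ o2 (centralizer (F : Set G)) := by
  have h1 := cj_mono x h.low
  rwa [cj_of_le (ChoiceSit.le_normalizer_o2 _) hx] at h1

theorem U_le_o2 : UU V F ≤ o2 (centralizer (F : Set G)) := cl_le fun _ hx => h.line_le_o2 hx

theorem line_le_O {x : G} (hx : x ∈ centralizer (F : Set G)) : cj x V ≤ OV V := by
  have h1 : cj x V ≤ centralizer (V : Set G) := by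
    have h2 := h.lines_comm hx (one_mem _)
    rwa [cj_one] at h2
  refine (le_inf (h.line_le_o2 hx) h1).trans
    (ChoiceSit.le_o2 ((ChoiceSit.isPGroup_o2 _).to_le inf_le_left) inf_le_right ?_)
  intro y hy
  rw [mem_normalizer_iff_cj, cj_inf, cj_self hy,
    cj_of_le (ChoiceSit.le_normalizer_o2 (centralizer (F : Set G))) (h.CV_le_X hy)]

theorem U_le_O : UU V F ≤ OV V := cl_le fun _ hx => h.line_le_O hx

omit h [Finite G] in
theorem O_le_X (h : Base V F) : OV V ≤ centralizer (F : Set G) := (ChoiceSit.o2_le _).trans h.CV_le_X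

omit [Finite G] in
theorem cj_O {l : G} (hl : l ∈ normalizer (V : Set G)) : cj l (OV V) = OV V := by
  rw [cj_OV, cj_eq_of_mem_normalizer hl]

/-- `O₂(X)` normalises every line through `F` -/
theorem o2_norm_line {x : G} (hx : x ∈ centralizer (F : Set G)) :
    o2 (centralizer (F : Set G)) ≤ normalizer ((cj x V : Subgroup G) : Set G) := by
  have h1 := cj_norm (g := x) h.norm
  rwa [cj_of_le (ChoiceSit.le_normalizer_o2 _) hx] at h1

/-- the walk -/
theorem le_cj_O {n : ℕ} {g : G} (hg : Wk (centralizer (F : Set G)) (normalizer (V : Set G)) n g)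
    (hm : ∀ m < n, ∀ k, Wk (centralizer (F : Set G)) (normalizer (V : Set G)) m k →
      UU V F ≤ centralizer ((cj k (UU V F) : Subgroup G) : Set G)) :
    UU V F ≤ cj g (OV V) := by
  induction hg with
  | base hl =>
    rw [h.cj_O hl]
    exact h.U_le_O
  | @step n g x l hg hx hl ih =>
    have h1 := ih fun m hmn k hk => hm m (by omega) k hk
    have h2 := hm n (by omega) g hg
    have h3 : cj g⁻¹ (UU V F) ≤ o2 (centralizer (UU V F : Set G)) := by
      refine lemW ?_ ?_
      · have h4 := cj_mono g⁻¹ h1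
        rwa [cj_inv_cj] at h4
      · have h4 := cj_cent (g := g⁻¹) h2
        rwa [cj_inv_cj] at h4
    have h4 := cj_mono g (h3.trans (h.o2CU_le_O hx))
    rw [cj_cj_inv, cj_cj] at h4
    rwa [← cj_cj, h.cj_O hl]

theorem exists_crit : ∃ g, Crit V (centralizer (F : Set G)) (OV V) g := by
  set X := centralizer (F : Set G) with hX
  set L := normalizer (V : Set G) with hL
  have hex : ∃ n, ∃ g, Wk X L n g ∧ ¬ cl V X ≤ centralizer ((cj g (cl V X) : Subgroup G) : Set G) := by
    by_contra hcon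
    push Not at hcon
    have h1 : ∀ k ∈ X ⊔ L, cl V X ≤ centralizer ((cj k (cl V X) : Subgroup G) : Set G) := by
      intro k hk
      rcases Wk.cover hk with hk | ⟨n, g, x, hx, y, hy, hg, rfl⟩
      · rw [cj_cl hk]; exact h.U_comm
      · have h2 := cj_cent (g := x) (hcon n g hg)
        rw [cj_cl hx] at h2
        rwa [← cj_cj, cj_cl hy, ← cj_cj]
    have hc : cl (cl V X) (X ⊔ L) ≤ centralizer ((cl (cl V X) (X ⊔ L) : Subgroup G) : Set G) := by
      refine cl_le fun a ha => cent_symm (cl_le fun b hb => ?_)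
      have h2 := cj_cent (g := b) (h1 (b⁻¹ * a) (mul_mem (inv_mem hb) ha))
      rwa [cj_cj, mul_inv_cancel_left] at h2
    have hsq : ∀ w ∈ cl (cl V X) (X ⊔ L), w ^ 2 = 1 :=
      sq_of_comm hc (fun i : (X ⊔ L : Subgroup G) => cj_le_cl i.2) le_rfl fun i v hv => by
        have h1 := h.U_sq _ (mem_cj.1 hv)
        have e : v ^ 2 = (i : G) * ((i : G)⁻¹ * v * i) ^ 2 * (i : G)⁻¹ := by rw [pow_two, pow_two]; group
        rw [e, h1]; group
    have h2 := h.nonloc _ (fun x => ⟨1, Subtype.ext (by simpa using hsq x x.2)⟩)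
      (le_sup_right.trans (le_normalizer_cl _ _)) (le_sup_left.trans (le_normalizer_cl _ _))
    exact h.V_ne_bot (le_bot_iff.1 (((le_cl V X).trans (le_cl _ _)).trans h2.le))
  classical
  obtain ⟨g, hg, hne⟩ := Nat.find_spec hex
  have hm : ∀ m < Nat.find hex, ∀ k, Wk X L m k →
      cl V X ≤ centralizer ((cj k (cl V X) : Subgroup G) : Set G) := by
    intro m hmn k hk
    by_contra h0
    exact Nat.find_min hex hmn ⟨k, hk, h0⟩
  refine ⟨g, hne, h.le_cj_O hg hm, ?_⟩
  rw [cj_le_iff]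
  exact h.le_cj_O hg.inv hm

end Base

/-! ### From `Lines` and `Fl` -/

/-- The situation from `NoEmp.Lines` and a maximal `F` (`Alpha.Fl`), if `⟨N_G(V), C_G(F)⟩` is not local. -/
theorem Base.of_lines [Finite G] {S : Sylow 2 G} {J V F T : Subgroup G} (hG : IsCharacteristicTwoType G)
    (h : Lines S J V) (f : Alpha.Fl S V F T)
    (hnl : ∀ R : Subgroup G, IsPGroup 2 R → normalizer (V : Set G) ≤ normalizer (R : Set G) →
      centralizer (F : Set G) ≤ normalizer (R : Set G) → R = ⊥) : Base V F where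
  sq := h.sq
  comm := h.comm
  nff := h.nff
  F_le := f.le
  F_ne_bot := f.ne
  low := h.le_o2 (h.char2 hG) (h.char2 hG F f.le f.ne) (h.JV.trans (centralizer_le f.le))
    (h.comm.trans (centralizer_le f.le))
  norm := (o2_le_syl f.syl).trans (f.T_le.trans h.S_le)
  line := fun _ hx hxV => f.line h hx hxV
  ti := fun g hg => Alpha.ti hG h g hg
  nonloc := hnl

end Cfsg.Agent.Omega.NO3b.KFull
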