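import Cfsg.Agent.Omega.NO3b.KFull.Crit

/-!
# K0 over the full stabilisers, part 3: the count

`c : K0.Crit V X O g`, `X = C_G(F)`, `O = O₂(C_G(V))`, `U = ⟨V^X⟩`, `Q = O₂(X)`, `E = U ∩ Q^g`.

* `lemW` : a subgroup of `O^g` which centralises `U^g` lies in `O₂(C_G(U^g)) ≤ Q^g`;
* `count` : `|E : C_E(U^g)| = 1` or `2 |E : C_E(U^g)| ≤ |U^g : U^g ∩ Q|`;
* `index_eq` : `|U : C_U(U^g)| = |E : C_E(U^g)| |U : E|`; `nle` : `U ≰ Q^g`;
  `index_lt` : `|U : C_U(U^g)| < |U : E| |U^g : U^g ∩ Q|`.
-/

set_option autoImplicit false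

namespace Cfsg.Agent.Omega.NO3b.KFull

open Subgroup Cfsg Cfsg.Agent.ZN Cfsg.Agent.ZN.ChoiceBase Cfsg.Agent.ZN.ChoiceSit
open Cfsg.Agent.Omega.NO3b.EZero Cfsg.Agent.Omega.NO3b.NoEmp Cfsg.Agent.Omega.NO3b.K0
open scoped commutatorElement

universe u

variable {G : Type u} [Group G]

variable {V F : Subgroup G}

namespace CritF

variable {g : G} (c : Crit V (centralizer (F : Set G)) (OV V) g) (h : Base V F)
include c h

variable [Finite G]

omit c in
/-- **LEMMA W** at `U^g`: `A ≤ O^g`, `[A, U^g] = 1` implies `A ≤ O₂(C_G(U^g))` -/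
theorem lemW {A : Subgroup G} (hA : A ≤ cj g (OV V))
    (hAU : A ≤ centralizer ((cj g (cl V (centralizer (F : Set G))) : Subgroup G) : Set G)) :
    A ≤ o2 (centralizer ((cj g (cl V (centralizer (F : Set G))) : Subgroup G) : Set G)) := by
  have h1 : cj g⁻¹ A ≤ o2 (centralizer (UU V F : Set G)) := by
    refine Base.lemW ?_ ?_
    · have h4 := cj_mono g⁻¹ hA
      rwa [cj_inv_cj] at h4
    · have h4 := cj_cent (g := g⁻¹) hAU
      rwa [cj_inv_cj] at h4
  have h2 := cj_mono g h1
  rwa [cj_cj_inv, o2_cent_cj] at h2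

omit c in
/-- `Q^g` normalises `V^{gy}` -/
theorem o2_norm_line {y : G} (hy : y ∈ centralizer (F : Set G)) :
    cj g (o2 (centralizer (F : Set G))) ≤ normalizer ((cj (g * y) V : Subgroup G) : Set G) := by
  have h1 := cj_norm (g := g) (h.o2_norm_line hy)
  rwa [cj_cj] at h1

/-- the line by line count -/
theorem count : (centralizer ((cj g (cl V (centralizer (F : Set G))) : Subgroup G) : Set G)).relIndex (cl V (centralizer (F : Set G)) ⊓ cj g (o2 (centralizer (F : Set G)))) = 1 ∨
    2 * (centralizer ((cj g (cl V (centralizer (F : Set G))) : Subgroup G) : Set G)).relIndex (cl V (centralizer (F : Set G)) ⊓ cj g (o2 (centralizer (F : Set G)))) ≤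
      (o2 (centralizer (F : Set G))).relIndex (cj g (cl V (centralizer (F : Set G)))) := by
  set U' := cj g (cl V (centralizer (F : Set G))) with hU'
  set E := cl V (centralizer (F : Set G)) ⊓ cj g (o2 (centralizer (F : Set G))) with hE
  let P : Subgroup G → Prop := fun D => U' ⊓ o2 (centralizer (F : Set G)) ≤ D ∧ D ≤ U' ∧
    ((centralizer (D : Set G)).relIndex E = 1 ∨
      2 * (centralizer (D : Set G)).relIndex E ≤ (o2 (centralizer (F : Set G))).relIndex D)
  have hP0 : P (U' ⊓ o2 (centralizer (F : Set G))) := by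
    refine ⟨le_rfl, inf_le_left, Or.inl (relIndex_eq_one.2 ?_)⟩
    rintro u ⟨hu1, hu2⟩
    rw [mem_centralizer_iff]
    rintro e ⟨he1, he2⟩
    exact (CritF.comm_E c h hu1 hu2 he1 he2).symm
  obtain ⟨D, hD, hmax⟩ := Set.exists_max_image {D : Subgroup G | P D} (fun D => Nat.card D)
    (Set.toFinite _) ⟨_, hP0⟩
  obtain ⟨hD1, hD2, hD3⟩ : P D := hD
  have hDU : D = U' := by
    by_contra hne
    have h1 : ∃ y ∈ centralizer (F : Set G), ¬ cj (g * y) V ≤ D := by
      by_contra hcon
      push Not at hcon
      apply hne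
      refine le_antisymm hD2 ?_
      rw [hU']
      unfold cl
      rw [EZero.cj_iSup]
      refine iSup_le fun y => ?_
      rw [cj_cj]
      exact hcon y y.2
    obtain ⟨y, hy, hyD⟩ := h1
    set B := cj (g * y) V with hB
    have hBU : B ≤ U' := by
      have h3 := cj_mono g (cj_le_cl (V := V) hy)
      rwa [cj_cj] at h3
    have hU'ab : U' ≤ centralizer (U' : Set G) := cj_cent h.U_comm
    have hPB : P (D ⊔ B) := by
      refine ⟨hD1.trans le_sup_left, sup_le hD2 hBU, ?_⟩
      rw [cent_sup, ← relIndex_inf_mul_relIndex]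
      have hQD : (o2 (centralizer (F : Set G))).relIndex D ≤ (o2 (centralizer (F : Set G))).relIndex (D ⊔ B) :=
        relIndex_le_of_le_right le_sup_left index_ne_zero_of_finite
      by_cases hc : centralizer (D : Set G) ⊓ E ≤ centralizer (B : Set G)
      · rw [relIndex_eq_one.2 hc, one_mul]
        rcases hD3 with h4 | h4
        · exact Or.inl h4
        · exact Or.inr (h4.trans hQD)
      · right
        have hEU : E ≤ cl V (centralizer (F : Set G)) := inf_le_left
        have h5 := (h.nff.cj (g * y)) (centralizer (D : Set G) ⊓ E) (h.isPGroup_U.to_le (inf_le_right.trans hEU))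
          ((inf_le_right.trans inf_le_right).trans (o2_norm_line h hy))
          (fun a ha => by rw [h.U_sq a (hEU ha.2)]; exact one_mem _)
          (fun a ha b hb => by
            have e : a * b = b * a := (mem_centralizer_iff.1 (h.U_comm (hEU ha.2)) b (hEU hb.2)).symm
            rw [e, mul_inv_cancel_right, mul_inv_cancel]; exact one_mem _) hc
        have h6 := two_mul_le_of_lt (h.isPGroup_U.to_le (inf_le_right.trans hEU))
          (isPGroup_cj _ h.isPGroup_V) h5
        -- `|B : C_B(E₁)| ≤ |B : B ∩ D| ≤ |D B : D|`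
        have h7 : (centralizer ((centralizer (D : Set G) ⊓ E : Subgroup G) : Set G)).relIndex B ≤
            D.relIndex (D ⊔ B) := by
          refine le_trans (relIndex_le_of_le_left (H := D) ?_ index_ne_zero_of_finite)
            (relIndex_le_of_le_right le_sup_right index_ne_zero_of_finite)
          exact cent_symm inf_le_left
        have h8 : (centralizer (D : Set G)).relIndex E ≤ (o2 (centralizer (F : Set G))).relIndex D := by
          rcases hD3 with h4 | h4
          · rw [h4]; exact Nat.pos_of_ne_zero index_ne_zero_of_finite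
          · omega
        have h9 : (o2 (centralizer (F : Set G))).relIndex D * D.relIndex (D ⊔ B) ≤ (o2 (centralizer (F : Set G))).relIndex (D ⊔ B) := by
          have h10 := relIndex_mul_relIndex (D ⊓ o2 (centralizer (F : Set G))) D (D ⊔ B) inf_le_left le_sup_left
          rw [inf_relIndex_left] at h10
          rw [h10]
          have h11 : (D ⊔ B) ⊓ o2 (centralizer (F : Set G)) ≤ D ⊓ o2 (centralizer (F : Set G)) := by
            refine le_inf ?_ inf_le_right
            exact (inf_le_inf_right _ (sup_le hD2 hBU)).trans hD1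
          have h12 := relIndex_le_of_le_left (L := D ⊔ B) h11 index_ne_zero_of_finite
          rwa [inf_relIndex_left] at h12
        calc 2 * ((centralizer (B : Set G)).relIndex (centralizer (D : Set G) ⊓ E) *
              (centralizer (D : Set G)).relIndex E)
            = (2 * (centralizer (B : Set G)).relIndex (centralizer (D : Set G) ⊓ E)) *
              (centralizer (D : Set G)).relIndex E := by ring
          _ ≤ D.relIndex (D ⊔ B) * (o2 (centralizer (F : Set G))).relIndex D := Nat.mul_le_mul (h6.trans h7) h8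
          _ = (o2 (centralizer (F : Set G))).relIndex D * D.relIndex (D ⊔ B) := by ring
          _ ≤ _ := h9
    have h13 := hmax _ hPB
    have h14 : D = D ⊔ B := eq_of_le_of_card_ge le_sup_left h13
    exact hyD (le_sup_right.trans h14.ge)
  rw [hDU] at hD3
  exact hD3

/-- `C_U(U^g) ≤ Q^g` -/
theorem cent_le_o2 : cl V (centralizer (F : Set G)) ⊓ centralizer ((cj g (cl V (centralizer (F : Set G))) : Subgroup G) : Set G) ≤ cj g (o2 (centralizer (F : Set G))) :=
  (lemW h (inf_le_left.trans c.le1) inf_le_right).trans (by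
    rw [← UU, ← o2_cent_cj]
    exact cj_mono g h.o2CU_le_o2X)

/-- `|U : C_U(U^g)| = |E : C_E(U^g)| |U : E|` -/
theorem index_eq : (centralizer ((cj g (cl V (centralizer (F : Set G))) : Subgroup G) : Set G)).relIndex (cl V (centralizer (F : Set G)) ⊓ cj g (o2 (centralizer (F : Set G)))) *
    (cj g (o2 (centralizer (F : Set G)))).relIndex (cl V (centralizer (F : Set G))) =
      (centralizer ((cj g (cl V (centralizer (F : Set G))) : Subgroup G) : Set G)).relIndex (cl V (centralizer (F : Set G))) := by
  have h1 := relIndex_inf_mul_relIndex (centralizer ((cj g (cl V (centralizer (F : Set G))) : Subgroup G) : Set G)) (cj g (o2 (centralizer (F : Set G))))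
    (cl V (centralizer (F : Set G)))
  rw [inf_comm (cl V (centralizer (F : Set G)))]
  rw [h1, ← inf_relIndex_right]
  have h2 : centralizer ((cj g (cl V (centralizer (F : Set G))) : Subgroup G) : Set G) ⊓ cj g (o2 (centralizer (F : Set G))) ⊓ cl V (centralizer (F : Set G)) =
      centralizer ((cj g (cl V (centralizer (F : Set G))) : Subgroup G) : Set G) ⊓ cl V (centralizer (F : Set G)) := by
    apply le_antisymm
    · exact le_inf (inf_le_left.trans inf_le_left) inf_le_right
    · refine le_inf (le_inf inf_le_left ?_) inf_le_right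
      rw [inf_comm]
      exact CritF.cent_le_o2 c h
  rw [h2, inf_relIndex_right]

/-- `U ≰ Q^g` -/
theorem nle : ¬ cl V (centralizer (F : Set G)) ≤ cj g (o2 (centralizer (F : Set G))) := by
  intro h0
  have h1 : ∃ x ∈ centralizer (F : Set G), ∃ y ∈ centralizer (F : Set G), ¬ cj x V ≤ centralizer ((cj (g * y) V : Subgroup G) : Set G) := by
    by_contra hcon
    push Not at hcon
    refine c.ncomm (cl_le fun x hx => cent_symm ?_)
    unfold cl
    rw [EZero.cj_iSup]
    refine iSup_le fun y => ?_
    rw [cj_cj]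
    exact cent_symm (hcon x hx y y.2)
  obtain ⟨x, hx, y, hy, hxy⟩ := h1
  exact (CritF.norm c h hx hy hxy).1 (((cj_le_cl hx).trans h0).trans (o2_norm_line h hy))

/-- `|U : C_U(U^g)| < |U : U ∩ Q^g| |U^g : U^g ∩ Q|` -/
theorem index_lt : (centralizer ((cj g (cl V (centralizer (F : Set G))) : Subgroup G) : Set G)).relIndex (cl V (centralizer (F : Set G))) <
    (cj g (o2 (centralizer (F : Set G)))).relIndex (cl V (centralizer (F : Set G))) * (o2 (centralizer (F : Set G))).relIndex (cj g (cl V (centralizer (F : Set G)))) := by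
  have h1 : 2 ≤ (cj g (o2 (centralizer (F : Set G)))).relIndex (cl V (centralizer (F : Set G))) := two_le_of_ne (CritF.nle c h)
  have h2 : 2 ≤ (o2 (centralizer (F : Set G))).relIndex (cj g (cl V (centralizer (F : Set G)))) := by
    have h3 := two_le_of_ne (CritF.nle c.inv h)
    rw [← relIndex_cj g, cj_cj_inv] at h3
    exact h3
  rw [← CritF.index_eq c h]
  rcases CritF.count c h with h3 | h3
  · rw [h3, one_mul]
    nlinarith
  · have h4 : 0 < (centralizer ((cj g (cl V (centralizer (F : Set G))) : Subgroup G) : Set G)).relIndex (cl V (centralizer (F : Set G)) ⊓ cj g (o2 (centralizer (F : Set G)))) :=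
      Nat.pos_of_ne_zero index_ne_zero_of_finite
    nlinarith

end CritF

end Cfsg.Agent.Omega.NO3b.KFull

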