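import Cfsg.Agent.Omega.NO3b.KFull.Base

/-!
# K0 over the full stabilisers, part 2: critical pairs

`c : K0.Crit V X O g`, `X = C_G(F)`, `O = O₂(C_G(V))`, `U = ⟨V^X⟩`, `Q = O₂(X)`.

* `norm` : two lines `V^x`, `V^{gy}` (`x, y ∈ X`) which do not commute do not normalise each other;
* `inf_le` : `V^x ∩ U^g ≤ F` if `V^x` does not centralise `U^g`;
* `comm_mem` : `[U, U^g ∩ Q] ≤ F`; `inf_F` : `F ∩ F^g = 1`; `comm_E` : `[U ∩ Q^g, U^g ∩ Q] = 1`;
* `lemW` : a subgroup of `O^g` which centralises `U^g` lies in `O₂(C_G(U^g)) ≤ Q^g`.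
-/

set_option autoImplicit false

namespace Cfsg.Agent.Omega.NO3b.KFull

open Subgroup Cfsg Cfsg.Agent.ZN Cfsg.Agent.ZN.ChoiceBase Cfsg.Agent.ZN.ChoiceSit
open Cfsg.Agent.Omega.NO3b.EZero Cfsg.Agent.Omega.NO3b.NoEmp Cfsg.Agent.Omega.NO3b.K0
open scoped commutatorElement

universe u

variable {G : Type u} [Group G]

variable {V F : Subgroup G}

namespace Base

variable (h : Base V F)
include h

/-- `C_{V^x}(w) ≤ F` for `w ∈ X - N(V^x)` -/
theorem cent_le {x w : G} (hx : x ∈ centralizer (F : Set G))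
    (hw : w ∈ centralizer (F : Set G)) (hn : w ∉ normalizer ((cj x V : Subgroup G) : Set G)) {v : G} (hv : v ∈ cj x V)
    (hc : v * w = w * v) : v ∈ F := by
  have h1 : cj (w * x) V ≠ cj x V := by
    intro h0
    rw [← cj_cj] at h0
    exact hn (mem_normalizer_iff_cj.2 h0)
  rw [← h.line' (mul_mem hw hx) hx h1]
  refine ⟨?_, hv⟩
  change v ∈ cj (w * x) V
  rw [← cj_cj, mem_cj, mul_assoc, hc, inv_mul_cancel_left]
  exact hv

end Base

namespace CritF

variable {g : G} (c : Crit V (centralizer (F : Set G)) (OV V) g) (h : Base V F)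
include c h

/-- `U^g ≤ X` -/
theorem le_X : cj g (cl V (centralizer (F : Set G))) ≤ centralizer (F : Set G) := c.le2.trans h.O_le_X

/-- `U ≤ X^g` -/
theorem le_cj_X : cl V (centralizer (F : Set G)) ≤ cj g (centralizer (F : Set G)) := c.le1.trans (cj_mono g h.O_le_X)

/-- `U` normalises `U^g` -/
theorem U_norm : cl V (centralizer (F : Set G)) ≤ normalizer ((cj g (cl V (centralizer (F : Set G))) : Subgroup G) : Set G) :=
  (CritF.le_cj_X c h).trans (cj_norm (le_normalizer_cl V (centralizer (F : Set G))))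

/-- `U^g` normalises `U` -/
theorem norm_U : cj g (cl V (centralizer (F : Set G))) ≤ normalizer ((cl V (centralizer (F : Set G)) : Subgroup G) : Set G) :=
  (CritF.le_X c h).trans (le_normalizer_cl V (centralizer (F : Set G)))

/-- `U` centralises `F^g` -/
theorem cent_F : cl V (centralizer (F : Set G)) ≤ centralizer ((cj g F : Subgroup G) : Set G) :=
  (CritF.le_cj_X c h).trans (cj_cent le_rfl)

variable [Finite G]

/-- the key step: `V^x ≤ N(V^{gy})` and `V^{gy} ≰ N(V^x)` is impossible. -/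
theorem key {x y : G} (hx : x ∈ centralizer (F : Set G)) (hy : y ∈ centralizer (F : Set G))
    (h1 : cj x V ≤ normalizer ((cj (g * y) V : Subgroup G) : Set G)) :
    cj (g * y) V ≤ normalizer ((cj x V : Subgroup G) : Set G) := by
  by_contra h2
  rw [SetLike.not_le_iff_exists] at h2
  obtain ⟨w, hw, hwn⟩ := h2
  have hwU : w ∈ cj g (cl V (centralizer (F : Set G))) := by
    have h3 := cj_mono g (cj_le_cl (V := V) hy)
    rw [cj_cj] at h3
    exact h3 hw
  have hwX := CritF.le_X c h hwU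
  -- `C_{V^x}(V^{gy}) ≤ F`
  have h3 : cj x V ⊓ centralizer ((cj (g * y) V : Subgroup G) : Set G) ≤ F := fun v hv =>
    h.cent_le hx hwX hwn hv.1 (mem_centralizer_iff.1 hv.2 w hw).symm
  have hnc : ¬ cj x V ≤ centralizer ((cj (g * y) V : Subgroup G) : Set G) := by
    intro h0
    apply hwn
    exact centralizer_le_normalizer _ (cent_symm h0 hw)
  -- `F^{gy}` is centralised by `V^x`
  have h4 : cj (g * y) F ≤ centralizer ((cj x V : Subgroup G) : Set G) := by
    rw [← cj_cj, h.cj_F hy]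
    exact cent_symm ((cj_le_cl hx).trans (CritF.cent_F c h))
  have h5 := (h.nff.cj (g * y)) (cj x V) (isPGroup_cj _ h.isPGroup_V) h1
    (fun a ha => by rw [h.cj_sq x a ha]; exact one_mem _)
    (fun a ha b hb => by
      have e : a * b = b * a := (mem_centralizer_iff.1 (cj_cent (g := x) h.comm ha) b hb).symm
      rw [e, mul_inv_cancel_right, mul_inv_cancel]; exact one_mem _) hnc
  -- counting
  have h6 : (centralizer ((cj x V : Subgroup G) : Set G)).relIndex (cj (g * y) V) ≤ F.relIndex V := by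
    rw [← relIndex_cj (g * y) F V]
    exact Nat.le_of_dvd (Nat.pos_of_ne_zero index_ne_zero_of_finite)
      (relIndex_dvd_of_le_left _ h4)
  have h7 : F.relIndex V ≤ (centralizer ((cj (g * y) V : Subgroup G) : Set G)).relIndex (cj x V) := by
    rw [← relIndex_cj x F V, h.cj_F hx, ← inf_relIndex_right (centralizer _) (cj x V)]
    refine Nat.le_of_dvd (Nat.pos_of_ne_zero index_ne_zero_of_finite)
      (relIndex_dvd_of_le_left _ ?_)
    rw [inf_comm]; exact h3
  omega

/-- Lines which do not commute do not normalise each other. -/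
theorem norm {x y : G} (hx : x ∈ centralizer (F : Set G)) (hy : y ∈ centralizer (F : Set G))
    (hn : ¬ cj x V ≤ centralizer ((cj (g * y) V : Subgroup G) : Set G)) :
    ¬ cj x V ≤ normalizer ((cj (g * y) V : Subgroup G) : Set G) ∧
      ¬ cj (g * y) V ≤ normalizer ((cj x V : Subgroup G) : Set G) := by
  have hcomm : cj x V ≤ normalizer ((cj (g * y) V : Subgroup G) : Set G) →
      cj (g * y) V ≤ normalizer ((cj x V : Subgroup G) : Set G) → False := fun h1 h2 =>
    hn (comm_of_norm (h.nff.cj _) (h.nff.cj _) (h.cj_sq _) (h.cj_sq _) (cj_cent h.comm) (cj_cent h.comm)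
      h1 h2)
  have h1 : cj x V ≤ normalizer ((cj (g * y) V : Subgroup G) : Set G) → False := fun h1 =>
    hcomm h1 (CritF.key c h hx hy h1)
  refine ⟨h1, fun h2 => ?_⟩
  -- the symmetric statement
  have h3 := cj_norm (g := g⁻¹) h2
  rw [cj_cj, inv_mul_cancel_left, cj_cj] at h3
  have h4 := CritF.key c.inv h hy hx h3
  have h5 := cj_norm (g := g) h4
  rw [cj_cj, mul_inv_cancel_left, cj_cj] at h5
  exact h1 h5

/-- a line `V^x` which does not centralise `U^g` meets `U^g` in a subgroup of `F` -/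
theorem inf_le {x : G} (hx : x ∈ centralizer (F : Set G))
    (hn : ¬ cj x V ≤ centralizer ((cj g (cl V (centralizer (F : Set G))) : Subgroup G) : Set G)) :
    cj x V ⊓ cj g (cl V (centralizer (F : Set G))) ≤ F := by
  have h1 : ∃ y ∈ centralizer (F : Set G), ¬ cj x V ≤ centralizer ((cj (g * y) V : Subgroup G) : Set G) := by
    by_contra hcon
    push Not at hcon
    apply hn
    refine cent_symm ?_
    unfold cl
    rw [EZero.cj_iSup]
    refine iSup_le fun y => ?_
    rw [cj_cj]
    exact cent_symm (hcon y y.2)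
  obtain ⟨y, hy, hxy⟩ := h1
  have h2 := (CritF.norm c h hx hy hxy).2
  rw [SetLike.not_le_iff_exists] at h2
  obtain ⟨w, hw, hwn⟩ := h2
  have hwU : w ∈ cj g (cl V (centralizer (F : Set G))) := by
    have h3 := cj_mono g (cj_le_cl (V := V) hy)
    rw [cj_cj] at h3
    exact h3 hw
  rintro v ⟨hv1, hv2⟩
  refine h.cent_le hx (CritF.le_X c h hwU) hwn hv1 ?_
  exact (mem_centralizer_iff.1 (cj_cent (g := g) h.U_comm hv2) w hwU).symm

/-- `[U, U^g ∩ Q] ≤ F` -/
theorem comm_mem {u e : G} (hu : u ∈ cl V (centralizer (F : Set G))) (he : e ∈ cj g (cl V (centralizer (F : Set G)))) (heQ : e ∈ o2 (centralizer (F : Set G))) : ⁅u, e⁆ ∈ F := by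
  let K : Subgroup G :=
    { carrier := {u | u ∈ cl V (centralizer (F : Set G)) ∧ ⁅u, e⁆ ∈ F}
      one_mem' := ⟨one_mem _, by rw [commutatorElement_one_left]; exact one_mem _⟩
      mul_mem' := by
        rintro a b ⟨ha, ha'⟩ ⟨hb, hb'⟩
        refine ⟨mul_mem ha hb, ?_⟩
        have e1 : ⁅a * b, e⁆ = (a * ⁅b, e⁆ * a⁻¹) * ⁅a, e⁆ := by
          simp only [commutatorElement_def]; group
        have h1 := mem_centralizer_iff.1 (id (h.U_le_X ha)) _ hb'
        rw [e1, ← h1, mul_inv_cancel_right]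
        exact mul_mem hb' ha'
      inv_mem' := by
        rintro a ⟨ha, ha'⟩
        refine ⟨inv_mem ha, ?_⟩
        have e1 : ⁅a⁻¹, e⁆ = a⁻¹ * ⁅a, e⁆⁻¹ * a := by
          simp only [commutatorElement_def]; group
        have h1 := mem_centralizer_iff.1 (id (h.U_le_X (inv_mem ha))) _ (inv_mem ha')
        rw [e1, ← h1, mul_assoc, inv_mul_cancel, mul_one]
        exact inv_mem ha' }
  have key : cl V (centralizer (F : Set G)) ≤ K := by
    refine cl_le fun x hx v hv => ⟨cj_le_cl hx hv, ?_⟩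
    by_cases hn : cj x V ≤ centralizer ((cj g (cl V (centralizer (F : Set G))) : Subgroup G) : Set G)
    · have h1 := mem_centralizer_iff.1 (hn hv) e he
      have h2 : ⁅v, e⁆ = 1 := by rw [commutatorElement_eq_one_iff_mul_comm]; exact h1.symm
      rw [h2]; exact one_mem _
    · refine CritF.inf_le c h hx hn ⟨?_, ?_⟩
      · have h1 := conj_mem' (h.o2_norm_line hx) heQ (inv_mem hv)
        have e1 : ⁅v, e⁆ = v * (e * v⁻¹ * e⁻¹) := by simp only [commutatorElement_def]; group
        rw [e1]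
        exact mul_mem hv h1
      · have h1 := conj_mem' (CritF.U_norm c h) (cj_le_cl hx hv) he
        rw [commutatorElement_def]
        exact (cj g (cl V (centralizer (F : Set G)))).mul_mem h1 ((cj g (cl V (centralizer (F : Set G)))).inv_mem he)
  exact (key hu).2

omit [Finite G] in
/-- `F ∩ F^g = 1` -/
theorem inf_F : F ⊓ cj g F = ⊥ := by
  have h1 : ∃ x ∈ centralizer (F : Set G), ¬ cj x V ≤ centralizer ((cj g (cl V (centralizer (F : Set G))) : Subgroup G) : Set G) := by
    by_contra hcon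
    push Not at hcon
    exact c.ncomm (cl_le hcon)
  obtain ⟨x, hx, hn⟩ := h1
  by_contra hne
  apply hn
  refine cent_symm ?_
  unfold cl
  rw [EZero.cj_iSup]
  refine iSup_le fun y => ?_
  rw [cj_cj]
  refine h.ti' fun h0 => hne ?_
  rw [← le_bot_iff, ← h0]
  refine le_inf (inf_le_right.trans ?_) (inf_le_left.trans (h.F_le_line hx))
  have h5 := cj_mono (g * (y : G)) h.F_le
  rwa [← cj_cj, h.cj_F y.2] at h5

/-- `[U ∩ Q^g, U^g ∩ Q] = 1` -/
theorem comm_E {u e : G} (hu : u ∈ cl V (centralizer (F : Set G))) (huQ : u ∈ cj g (o2 (centralizer (F : Set G)))) (he : e ∈ cj g (cl V (centralizer (F : Set G))))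
    (heQ : e ∈ o2 (centralizer (F : Set G))) : u * e = e * u := by
  have h1 := CritF.comm_mem c h hu he heQ
  have h2 := CritF.comm_mem c.inv h (u := g⁻¹ * e * g) (e := g⁻¹ * u * g) (mem_cj.1 he) (by
    rw [mem_cj, inv_inv]
    have e1 : g * (g⁻¹ * u * g) * g⁻¹ = u := by group
    rwa [e1]) (mem_cj.1 huQ)
  have h3 : ⁅e, u⁆ ∈ cj g F := by
    rw [mem_cj]
    have e1 : g⁻¹ * ⁅e, u⁆ * g = ⁅g⁻¹ * e * g, g⁻¹ * u * g⁆ := by
      simp only [commutatorElement_def]; group
    rwa [e1]
  have h4 : ⁅u, e⁆ ∈ F ⊓ cj g F := by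
    refine ⟨h1, ?_⟩
    rw [← commutatorElement_inv e u]
    exact (cj g F).inv_mem h3
  rw [CritF.inf_F c h, mem_bot, commutatorElement_eq_one_iff_mul_comm] at h4
  exact h4

end CritF

end Cfsg.Agent.Omega.NO3b.KFull
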