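import Cfsg.Agent.Omega.NO3b.KFull.Tensor
import Cfsg.Agent.Omega.MinPar

/-!
# LEMMA Q (helper593 #18358), K-free, and the end of `(v1)`

`b : Base V F`, `X = C_G(F)`, `T` a Sylow 2-subgroup of `X`, `[V, T] ≤ F`, `U = ⟨V^X⟩`.

* `PanQ V F T` : this, and (PAN): if `P ≤ X` is a minimal parabolic over `T`, `P ≰ N(V)`, `D` normal in `X`,
  `F ≤ D ≤ U`, `v ∈ V`, `[v, P] ≤ D`, then `v ∈ D`;
* `LL T X` : the group generated by `T` and the minimal parabolics over `T` in `X`;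
* `PanQ.two_cent` : 2-elements of `St = C_X(R / C_R(V))` normalise `V` and centralise `V / F`;
* `PanQ.O_le_o2` : `O₂(C_G(V)) ≤ O₂(St)`; `PanQ.le_KF` : 2-subgroups of `C_X(U / C_U(R))` lie in `KF`;
* `PanQ.false` : **`(v1)`**: `R` normal in `X`, `[U, R] ≤ F`, `R ≰ C(V)`, two steps `1 ≤ Y₁ ≤ Y₂ ≤ F`
  with `v₁, v₂ ∈ V`: contradiction.
-/

set_option autoImplicit false

namespace Cfsg.Agent.Omega.NO3b.KFull

open Subgroup Cfsg Cfsg.Agent.ZN Cfsg.Agent.ZN.ChoiceBase Cfsg.Agent.ZN.ChoiceSit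
open Cfsg.Agent.MinSimple.MinParabolic (IsMinPar le_of_forall)
open Cfsg.Agent.Omega.NO3b.EZero Cfsg.Agent.Omega.NO3b.NoEmp Cfsg.Agent.Omega.NO3b.K0
open Cfsg.Agent.Omega.NO3b.LemD (br Dat Step Grp)
open scoped commutatorElement

universe u

variable {G : Type u} [Group G] {V F R T X : Subgroup G}

/-! ### `LL` -/

/-- the group generated by `T` and the minimal parabolics over `T` in `X` -/
def LL (T X : Subgroup G) : Subgroup G :=
  T ⊔ ⨆ P : {P : Subgroup G // IsMinPar T P ∧ P ≤ X}, (P : Subgroup G)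

theorem T_le_LL : T ≤ LL T X := le_sup_left

theorem par_le_LL {P : Subgroup G} (h : IsMinPar T P) (hP : P ≤ X) : P ≤ LL T X :=
  le_sup_of_le_right (le_iSup (fun P : {P : Subgroup G // IsMinPar T P ∧ P ≤ X} => (P : Subgroup G)) ⟨P, h, hP⟩)

theorem LL_le_of {Y : Subgroup G} (hT : T ≤ Y) (h : ∀ P : Subgroup G, IsMinPar T P → P ≤ X → P ≤ Y) :
    LL T X ≤ Y :=
  sup_le hT (iSup_le fun P => h P P.2.1 P.2.2)

theorem LL_le (h : T ≤ X) : LL T X ≤ X := LL_le_of h fun _ _ hP => hP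

theorem cj_LL_le {n : G} (hnT : cj n T = T) (hnX : cj n X = X) : cj n (LL T X) ≤ LL T X := by
  unfold LL
  have e : cj n (T ⊔ ⨆ P : {P : Subgroup G // IsMinPar T P ∧ P ≤ X}, (P : Subgroup G)) =
      cj n T ⊔ ⨆ P : {P : Subgroup G // IsMinPar T P ∧ P ≤ X}, cj n (P : Subgroup G) := by
    rw [← EZero.cj_iSup]
    exact Subgroup.map_sup _ _ _
  rw [e, hnT]
  refine sup_le le_sup_left (iSup_le fun P => ?_)
  have h1 : IsMinPar T (cj n (P : Subgroup G)) := by
    have h2 := MinPar.IsMinPar.map (MulAut.conj n) P.2.1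
    have h3 : T.map (MulAut.conj n).toMonoidHom = T := hnT
    rwa [h3] at h2
  have h2 : cj n (P : Subgroup G) ≤ X := by
    have h3 := cj_mono n P.2.2
    rwa [hnX] at h3
  exact par_le_LL h1 h2

/-- `LL T X` is normal in `X` -/
theorem norm_LL [Finite G] (h : T ≤ X) : X ≤ normalizer (LL T X : Set G) := by
  refine le_of_forall h ?_ fun P hP hPX => (par_le_LL hP hPX).trans le_normalizer
  rintro n ⟨hn, hnT⟩
  rw [mem_normalizer_iff_cj]
  have h1 := cj_LL_le (X := X) (mem_normalizer_iff_cj.1 hnT) (cj_of_le le_normalizer hn)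
  have h2 := cj_LL_le (X := X) (mem_normalizer_iff_cj.1 (inv_mem hnT)) (cj_of_le le_normalizer (inv_mem hn))
  refine le_antisymm h1 ?_
  have h3 := cj_mono n h2
  rwa [cj_cj_inv] at h3

/-- 2-subgroups of `X` lie in `LL T X` -/
theorem two_le_LL [Finite G] (hT : Syl T X) {B : Subgroup G} (hB : IsPGroup 2 B) (hBX : B ≤ X) : B ≤ LL T X := by
  obtain ⟨S, hS, hBS⟩ := exists_syl hB hBX
  obtain ⟨x, hx, hxT⟩ := syl_conj hT hS
  have h1 : cj x T ≤ LL T X := by
    have h2 := cj_mono x (T_le_LL (T := T) (X := X))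
    rwa [cj_of_le (norm_LL hT.1) hx] at h2
  exact hBS.trans (hxT ▸ h1)

theorem o2_le_o2 [Finite G] {L X : Subgroup G} (hL : L ≤ X) (hn : X ≤ normalizer (L : Set G)) : o2 L ≤ o2 X := by
  refine ChoiceSit.le_o2 (ChoiceSit.isPGroup_o2 _) ((ChoiceSit.o2_le _).trans hL) ?_
  intro x hx
  rw [mem_normalizer_iff_cj, ← ChoiceSit.o2_cj, mem_normalizer_iff_cj.1 (hn hx)]

theorem syl_of_le {T X Y : Subgroup G} (hT : Syl T X) (hTY : T ≤ Y) (hY : Y ≤ X) : Syl T Y :=
  ⟨hTY, hT.2.1, fun Q hQ h2 hTQ => hT.2.2 Q (hQ.trans hY) h2 hTQ⟩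

/-! ### (PAN) -/

/-- `T` Sylow in `X = C_G(F)`, `[V, T] ≤ F` and (PAN). -/
structure PanQ (V F T : Subgroup G) : Prop where
  syl : Syl T (centralizer (F : Set G))
  triv : ∀ t ∈ T, ∀ v ∈ V, br t v ∈ F
  pan : ∀ P : Subgroup G, IsMinPar T P → P ≤ centralizer (F : Set G) → ¬ P ≤ normalizer (V : Set G) →
    ∀ D : Subgroup G, F ≤ D → D ≤ UU V F → centralizer (F : Set G) ≤ normalizer (D : Set G) →
    ∀ v ∈ V, (∀ g ∈ P, br g v ∈ D) → v ∈ D

namespace PanQ

theorem norm_of_br (hF : F ≤ V) {B : Subgroup G} (h : ∀ b ∈ B, ∀ v ∈ V, br b v ∈ F) :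
    B ≤ normalizer (V : Set G) := by
  have key : ∀ b ∈ B, ∀ v ∈ V, b * v * b⁻¹ ∈ V := by
    intro b hb v hv
    have e : b * v * b⁻¹ = br b v * v := by unfold br; group
    rw [e]
    exact mul_mem (hF (h b hb v hv)) hv
  intro b hb
  rw [mem_normalizer_iff]
  refine fun v => ⟨key b hb v, fun hv => ?_⟩
  have h1 := key b⁻¹ (inv_mem hb) _ hv
  have e : b⁻¹ * (b * v * b⁻¹) * b⁻¹⁻¹ = v := by group
  rwa [e] at h1

variable (p : PanQ V F T) (h : Base V F)
include p h

theorem T_norm : T ≤ normalizer (V : Set G) := norm_of_br h.F_le p.triv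

section Two

variable [Finite G]

/-- 2-subgroups of `N_X(V)` centralise `V / F` -/
theorem br_mem {B : Subgroup G} (hB : IsPGroup 2 B) (hBX : B ≤ centralizer (F : Set G))
    (hBV : B ≤ normalizer (V : Set G)) {b v : G} (hb : b ∈ B) (hv : v ∈ V) : br b v ∈ F := by
  have hS : Syl T (centralizer (F : Set G) ⊓ normalizer (V : Set G)) :=
    syl_of_le p.syl (le_inf p.syl.1 (p.T_norm h)) inf_le_left
  obtain ⟨S, hS', hBS⟩ := exists_syl hB (le_inf hBX hBV)
  obtain ⟨n, hn, rfl⟩ := syl_conj hS hS'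
  have h1 := p.triv _ (mem_cj.1 (hBS hb)) (n⁻¹ * v * n) (by
    have h2 := (mem_normalizer_iff.1 (inv_mem hn.2) v).1 hv
    rwa [inv_inv] at h2)
  have e : br b v = n * br (n⁻¹ * b * n) (n⁻¹ * v * n) * n⁻¹ := by unfold br; group
  rw [e, ← mem_centralizer_iff.1 hn.1 _ h1, mul_inv_cancel_right]
  exact h1

end Two

variable {Y' Y : Subgroup G} {v : G} (d : Dat (centralizer (F : Set G)) F V (UU V F) R) (s : Step V R Y' Y v)
include d s

omit h in
/-- `T ≤ St` -/
theorem T_le_St : T ≤ d.St := by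
  intro t ht
  rw [← s.stab d (p.syl.1 ht)]
  exact d.Z_le Y' (p.triv t ht v s.mem)

/-- the minimal parabolics over `T` in `St` normalise `V` -/
theorem LL_norm (hRV : ¬ R ≤ centralizer (V : Set G)) : LL T d.St ≤ normalizer (V : Set G) := by
  refine LL_le_of (p.T_norm h) fun P hP hPS => ?_
  by_contra hPV
  have h1 := p.pan P hP (hPS.trans d.St_le) hPV (d.WY Y') (d.Z_le Y') (d.WY_le Y') (d.nWY Y') v s.mem
    fun g hg => (s.stab d (d.St_le (hPS hg))).2 (hPS hg)
  exact hRV fun r hr => s.tp r hr (h1.2 r hr)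

variable [Finite G]

/-- 2-subgroups of `St` normalise `V` -/
theorem two_norm (hRV : ¬ R ≤ centralizer (V : Set G)) {B : Subgroup G} (hB : IsPGroup 2 B) (hBS : B ≤ d.St) :
    B ≤ normalizer (V : Set G) :=
  (two_le_LL (syl_of_le p.syl (T_le_St p d s) d.St_le) hB hBS).trans (LL_norm p h d s hRV)

omit p s [Finite G] in
/-- `O₂(C_G(V)) ≤ St` -/
theorem O_le_St : OV V ≤ d.St := by
  intro x hx
  have hxV : x ∈ centralizer (V : Set G) := ChoiceSit.o2_le _ hx
  refine ⟨h.CV_le_X hxV, fun r hr => ?_⟩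
  have hrV : r ∈ normalizer (V : Set G) := by
    have hrK : r ∈ KF V F := ⟨d.RC hr, fun u hu => d.wr u hu r hr⟩
    exact KF_norm h hrK
  have h1 : r * x * r⁻¹ ∈ centralizer (V : Set G) := by
    rw [mem_centralizer_iff]
    intro v hv
    have h2 := (mem_normalizer_iff.1 (inv_mem hrV) v).1 hv
    rw [inv_inv] at h2
    have h3 := mem_centralizer_iff.1 hxV _ h2
    have e1 : v * (r * x * r⁻¹) = r * (r⁻¹ * v * r * x) * r⁻¹ := by group
    have e2 : r * x * r⁻¹ * v = r * (x * (r⁻¹ * v * r)) * r⁻¹ := by group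
    rw [e1, e2, h3]
  have e : x⁻¹ * r * x * r⁻¹ = x⁻¹ * (r * x * r⁻¹) := by group
  rw [e]
  exact mul_mem (inv_mem hxV) h1

/-- **`O₂(C_G(V)) ≤ O₂(St)`** -/
theorem O_le_o2 (hRV : ¬ R ≤ centralizer (V : Set G)) : OV V ≤ o2 d.St := by
  have hT := T_le_St p d s
  have h1 : OV V ≤ LL T d.St :=
    two_le_LL (syl_of_le p.syl hT d.St_le) (ChoiceSit.isPGroup_o2 _) (O_le_St h d)
  have h2 : OV V ≤ o2 (LL T d.St) := by
    refine ChoiceSit.le_o2 (ChoiceSit.isPGroup_o2 _) h1 ?_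
    intro x hx
    rw [mem_normalizer_iff_cj, h.cj_O (LL_norm p h d s hRV hx)]
  exact h2.trans (o2_le_o2 (LL_le hT) (norm_LL hT))

/-- **2-subgroups of `C_X(U / C_U(R))` lie in `KF`** -/
theorem le_KF (hRV : ¬ R ≤ centralizer (V : Set G)) {B : Subgroup G} (hB : IsPGroup 2 B) (hB0 : B ≤ d.CW0) :
    B ≤ KF V F := by
  have hBX : B ≤ centralizer (F : Set G) := fun b hb => (hB0 hb).1
  -- the conjugates of `B` under `X` are in `St`
  have h1 : ∀ c ∈ centralizer (F : Set G), cj c B ≤ d.St := by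
    intro c hc a ha
    have ha' := hB0 (mem_cj.1 ha)
    have haX : a ∈ centralizer (F : Set G) := by
      have h2 : cj c B ≤ centralizer (F : Set G) := by
        have h3 := cj_mono c hBX
        rwa [cj_self hc] at h3
      exact h2 ha
    rw [← s.stab d haX]
    have h2 := ha'.2 (c⁻¹ * v * c) (by
      have h3 := d.conj_W (inv_mem hc) (s.mem_W d)
      rwa [inv_inv] at h3)
    have h3 := (mem_normalizer_iff.1 (d.nWY ⊥ hc) _).1 h2
    have e : c * br (c⁻¹ * a * c) (c⁻¹ * v * c) * c⁻¹ = br a v := by unfold br; group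
    rw [e] at h3
    exact d.WY_mono bot_le h3
  intro b hb
  refine ⟨hBX hb, ?_⟩
  let K : Subgroup G :=
    { carrier := {u | u ∈ UU V F ∧ br b u ∈ F}
      one_mem' := ⟨one_mem _, by
        have e : br b (1 : G) = 1 := by unfold br; group
        rw [e]; exact one_mem _⟩
      mul_mem' := by
        rintro x y ⟨hx, hx'⟩ ⟨hy, hy'⟩
        refine ⟨mul_mem hx hy, ?_⟩
        rw [d.br_mul' (hBX hb) hx hy]
        exact mul_mem hx' hy'
      inv_mem' := by
        rintro x ⟨hx, hx'⟩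
        refine ⟨inv_mem hx, ?_⟩
        rw [d.br_inv' (hBX hb) hx]
        exact inv_mem hx' }
  have key : UU V F ≤ K := by
    refine cl_le fun c hc w hw => ⟨cj_le_cl hc hw, ?_⟩
    have h2 := h1 c⁻¹ (inv_mem hc)
    have h3 := p.br_mem h (isPGroup_cj c⁻¹ hB) (h2.trans d.St_le) (two_norm p h d s hRV (isPGroup_cj c⁻¹ hB) h2)
      (b := c⁻¹ * b * c) (v := c⁻¹ * w * c) (mem_cj.2 (by
        have e : c⁻¹⁻¹ * (c⁻¹ * b * c) * c⁻¹ = b := by group
        rwa [e])) (mem_cj.1 hw)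
    have e : br b w = c * br (c⁻¹ * b * c) (c⁻¹ * w * c) * c⁻¹ := by unfold br; group
    rw [e, ← mem_centralizer_iff.1 hc _ h3, mul_inv_cancel_right]
    exact h3
  exact fun u hu => (key hu).2

/-- the group side of (ML), `Q = O₂(St)` -/
theorem grp (hRV : ¬ R ≤ centralizer (V : Set G)) {A : Subgroup G} (hA : A ≤ OV V)
    (hA2 : ∀ a ∈ A, a * a = 1) : Grp d T (o2 d.St) A where
  sq := fun w hw => by rw [← pow_two]; exact h.U_sq w hw
  T_le := T_le_St p d s
  T_two := p.syl.2.1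
  T_odd := ChoiceSit.syl_not_dvd p.syl
  Q_le := ChoiceSit.o2_le _
  Q_two := ChoiceSit.isPGroup_o2 _
  Q_norm := ChoiceSit.le_normalizer_o2 _
  A_le := hA.trans (O_le_o2 p h d s hRV)
  A_sq := fun a ha w _ => by
    rw [hA2 a ha]
    have e : br (1 : G) w = 1 := by unfold br; group
    rw [e]; exact one_mem _

omit s in
/-- the count for a critical pair, `n` steps -/
theorem count (hML : ML.Final.MLK.{u, u}) (hK : IsKGroup (centralizer (F : Set G)))
    (hRV : ¬ R ≤ centralizer (V : Set G)) {g : G} (c : Crit V (centralizer (F : Set G)) (OV V) g)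
    (Y : ℕ → Subgroup G) (v : ℕ → G) {n : ℕ} (hn : 1 ≤ n) (hs : ∀ i < n, Step V R (Y i) (Y (i + 1)) (v i)) :
    (o2 (centralizer (F : Set G))).relIndex (cj g (UU V F)) ^ n ≤
      (centralizer ((cj g (UU V F) : Subgroup G) : Set G)).relIndex (UU V F) := by
  have s := hs 0 (by omega)
  have hA2 : ∀ a ∈ cj g (UU V F), a * a = 1 := by
    intro a ha
    have h1 := h.U_sq _ (mem_cj.1 ha)
    have e : a * a = g * (g⁻¹ * a * g) ^ 2 * g⁻¹ := by rw [pow_two]; group
    rw [e, h1]; group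
  have h1 := LemD.pow_le hML hK (grp p h d s hRV c.le2 hA2) Y v n hs
  have h2 : (o2 (centralizer (F : Set G))).relIndex (cj g (UU V F)) ≤ d.CW0.relIndex (cj g (UU V F)) := by
    have h3 : d.CW0 ⊓ cj g (UU V F) ≤ o2 (centralizer (F : Set G)) := by
      refine (le_inf ?_ (inf_le_right.trans c.le2)).trans (KF_inf_le h)
      exact le_KF p h d s hRV ((isPGroup_cj g h.isPGroup_U).to_le inf_le_right) inf_le_left
    rw [← inf_relIndex_right d.CW0]
    exact relIndex_le_of_le_left h3 index_ne_zero_of_finite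
  have h3 : 0 < (centralizer ((cj g (UU V F) : Subgroup G) : Set G)).relIndex (d.WY (Y 0)) :=
    Nat.pos_of_ne_zero index_ne_zero_of_finite
  have h4 := relIndex_le_of_le_right (H := centralizer ((cj g (UU V F) : Subgroup G) : Set G)) (d.WY_le (Y n))
    index_ne_zero_of_finite
  calc (o2 (centralizer (F : Set G))).relIndex (cj g (UU V F)) ^ n
      ≤ d.CW0.relIndex (cj g (UU V F)) ^ n := Nat.pow_le_pow_left h2 n
    _ ≤ d.CW0.relIndex (cj g (UU V F)) ^ n * _ := Nat.le_mul_of_pos_right _ h3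
    _ ≤ _ := h1
    _ ≤ _ := h4

omit s in
/-- **`(v1)`** -/
theorem false (hML : ML.Final.MLK.{u, u}) (hK : IsKGroup (centralizer (F : Set G)))
    (hRV : ¬ R ≤ centralizer (V : Set G)) {Y₀ Y₁ Y₂ : Subgroup G} {v₁ v₂ : G} (s₁ : Step V R Y₀ Y₁ v₁)
    (s₂ : Step V R Y₁ Y₂ v₂) : False := by
  have key : ∀ g, Crit V (centralizer (F : Set G)) (OV V) g →
      (o2 (centralizer (F : Set G))).relIndex (cj g (UU V F)) ^ 2 <
        (cj g (o2 (centralizer (F : Set G)))).relIndex (UU V F) *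
          (o2 (centralizer (F : Set G))).relIndex (cj g (UU V F)) := by
    intro g c
    refine lt_of_le_of_lt ?_ (CritF.index_lt c h)
    refine count p h d hML hK hRV c (fun i => if i = 0 then Y₀ else if i = 1 then Y₁ else Y₂)
      (fun i => if i = 0 then v₁ else v₂) (by norm_num) ?_
    intro i hi
    interval_cases i
    · exact s₁
    · exact s₂
  obtain ⟨g, c⟩ := h.exists_crit
  have h1 := key g c
  have h2 := key g⁻¹ c.inv
  have e1 : (o2 (centralizer (F : Set G))).relIndex (cj g⁻¹ (UU V F)) =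
      (cj g (o2 (centralizer (F : Set G)))).relIndex (UU V F) := by
    rw [← relIndex_cj g, cj_cj_inv]
  have e2 : (cj g⁻¹ (o2 (centralizer (F : Set G)))).relIndex (UU V F) =
      (o2 (centralizer (F : Set G))).relIndex (cj g (UU V F)) := by
    rw [← relIndex_cj g, cj_cj_inv]
  rw [e1, e2] at h2
  nlinarith

end PanQ

end Cfsg.Agent.Omega.NO3b.KFull
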