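import Cfsg.Agent.Omega.NO3b.KFull.Count
import Cfsg.Agent.Omega.NO3b.LemD

/-!
# K0 over the full stabilisers and LEMMA D: the end of `(v1)` (helper1 #17391, helper117 #18435)

`b : Base V F`, `X = C_G(F)`, `U = ⟨V^X⟩`, `R` normal in `X`, `[U, R] ≤ F`.

* `dat` : `LemD.Dat X F V U R`;
* `KF V F = {x ∈ X | [U, x] ≤ F}`; `KF_inf_le` : `KF ∩ O₂(C_G(V)) ≤ O₂(X)`; `inf_o2_le` : `U^g ∩ O₂(X) ≤ KF`;
* `ineq` : for a critical pair `(U, U^g)`, `A = U^g`:
  `|A : C_A(U / C_U(R))|^n |C_U(R) : C(A)| ≤ |U : C_U(A)|`, `|F| = q^n`, if `C_X(R / C_R(V)) ≤ N_G(V)`;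
* `false_of` : **`(v1)`**: if moreover `C_A(U / C_U(R)) ≤ KF` for all critical pairs and `2 ≤ n`: contradiction.
-/

set_option autoImplicit false

namespace Cfsg.Agent.Omega.NO3b.KFull

open Subgroup Cfsg Cfsg.Agent.ZN Cfsg.Agent.ZN.ChoiceBase Cfsg.Agent.ZN.ChoiceSit
open Cfsg.Agent.Omega.NO3b.EZero Cfsg.Agent.Omega.NO3b.NoEmp Cfsg.Agent.Omega.NO3b.K0
open Cfsg.Agent.Omega.NO3b.LemD (br Dat Step Grp)
open scoped commutatorElement

universe u

variable {G : Type u} [Group G] {V F R T : Subgroup G}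

/-- `{x ∈ X | [U, x] ≤ F}` -/
def KF (V F : Subgroup G) : Subgroup G where
  carrier := {x | x ∈ centralizer (F : Set G) ∧ ∀ u ∈ UU V F, br x u ∈ F}
  one_mem' := ⟨one_mem _, fun u _ => by
    have e : br (1 : G) u = 1 := by unfold br; group
    rw [e]; exact one_mem _⟩
  mul_mem' := by
    rintro x y ⟨hx, hx'⟩ ⟨hy, hy'⟩
    refine ⟨mul_mem hx hy, fun u hu => ?_⟩
    have e : br (x * y) u = (x * br y u * x⁻¹) * br x u := by unfold br; group
    rw [e, ← mem_centralizer_iff.1 hx _ (hy' u hu), mul_inv_cancel_right]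
    exact mul_mem (hy' u hu) (hx' u hu)
  inv_mem' := by
    rintro x ⟨hx, hx'⟩
    refine ⟨inv_mem hx, fun u hu => ?_⟩
    have e : br x⁻¹ u = x⁻¹ * (br x u)⁻¹ * x := by unfold br; group
    have h1 := inv_mem (hx' u hu)
    rw [e, ← mem_centralizer_iff.1 (inv_mem hx) _ h1, inv_mul_cancel_right]
    exact h1

theorem KF_le : KF V F ≤ centralizer (F : Set G) := fun _ hx => hx.1

/-- `X` normalises `KF` -/
theorem X_norm_KF : centralizer (F : Set G) ≤ normalizer (KF V F : Set G) := by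
  have key : ∀ c ∈ centralizer (F : Set G), ∀ x ∈ KF V F, c * x * c⁻¹ ∈ KF V F := by
    rintro c hc x ⟨hx, hx'⟩
    refine ⟨mul_mem (mul_mem hc hx) (inv_mem hc), fun u hu => ?_⟩
    have h1 := (mem_normalizer_iff.1 (le_normalizer_cl V _ (inv_mem hc)) u).1 hu
    have h2 := hx' _ h1
    have e : br (c * x * c⁻¹) u = c * br x (c⁻¹ * u * c⁻¹⁻¹) * c⁻¹ := by unfold br; group
    rw [e, ← mem_centralizer_iff.1 hc _ h2, mul_inv_cancel_right]
    exact h2
  intro c hc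
  rw [mem_normalizer_iff]
  refine fun x => ⟨key c hc x, fun hx => ?_⟩
  have h1 := key c⁻¹ (inv_mem hc) _ hx
  have e : c⁻¹ * (c * x * c⁻¹) * c⁻¹⁻¹ = x := by group
  rwa [e] at h1

/-- `KF ≤ N(V)` -/
theorem KF_norm (h : Base V F) : KF V F ≤ normalizer (V : Set G) := by
  have key : ∀ x ∈ KF V F, ∀ v ∈ V, x * v * x⁻¹ ∈ V := by
    rintro x ⟨_, hx'⟩ v hv
    have h1 := h.F_le (hx' v (le_cl V _ hv))
    have e : x * v * x⁻¹ = br x v * v := by unfold br; group
    rw [e]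
    exact mul_mem h1 hv
  intro x hx
  rw [mem_normalizer_iff]
  refine fun v => ⟨key x hx v, fun hv => ?_⟩
  have h1 := key x⁻¹ (inv_mem hx) _ hv
  have e : x⁻¹ * (x * v * x⁻¹) * x⁻¹⁻¹ = v := by group
  rwa [e] at h1

variable [Finite G]

/-- `KF ∩ O₂(C_G(V)) ≤ O₂(X)` -/
theorem KF_inf_le (h : Base V F) : KF V F ⊓ OV V ≤ o2 (centralizer (F : Set G)) := by
  have h1 : KF V F ⊓ OV V ≤ o2 (KF V F) := by
    refine ChoiceSit.le_o2 ((ChoiceSit.isPGroup_o2 _).to_le inf_le_right) inf_le_left ?_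
    intro x hx
    rw [mem_normalizer_iff_cj, cj_inf, cj_self hx, h.cj_O (KF_norm h hx)]
  refine h1.trans (ChoiceSit.le_o2 (ChoiceSit.isPGroup_o2 _) ((ChoiceSit.o2_le _).trans KF_le) ?_)
  intro x hx
  rw [mem_normalizer_iff_cj, ← ChoiceSit.o2_cj, mem_normalizer_iff_cj.1 (X_norm_KF hx)]

/-- `U^g ∩ O₂(X) ≤ KF` -/
theorem inf_o2_le (h : Base V F) {g : G} (c : Crit V (centralizer (F : Set G)) (OV V) g) :
    cj g (UU V F) ⊓ o2 (centralizer (F : Set G)) ≤ KF V F := by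
  rintro x ⟨hx, hxQ⟩
  refine ⟨ChoiceSit.o2_le _ hxQ, fun u hu => ?_⟩
  have h1 := CritF.comm_mem c h hu hx hxQ
  have e : br x u = ⁅u, x⁆⁻¹ := by rw [commutatorElement_def, br]; group
  rw [e]
  exact inv_mem h1

omit [Finite G] in
/-- LEMMA D for `U` -/
theorem dat (h : Base V F) (hR : R ≤ centralizer (F : Set G))
    (hRn : centralizer (F : Set G) ≤ normalizer (R : Set G)) (hRU : R ≤ KF V F) :
    Dat (centralizer (F : Set G)) F V (UU V F) R where
  cz := le_rfl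
  ZV := h.F_le
  gen := rfl
  comm := h.U_comm
  RC := hR
  nR := hRn
  wr := fun w hw r hr => (hRU hr).2 w hw

/-- the group side -/
theorem grp (h : Base V F) (d : Dat (centralizer (F : Set G)) F V (UU V F) R) (hT : Syl T (centralizer (F : Set G)))
    (hTS : T ≤ d.St) (hSt : d.St ≤ normalizer (V : Set G)) {A : Subgroup G} (hA : A ≤ OV V)
    (hA2 : ∀ a ∈ A, a * a = 1) : Grp d T (OV V) A where
  sq := fun w hw => by rw [← pow_two]; exact h.U_sq w hw
  T_le := hTS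
  T_two := hT.2.1
  T_odd := ChoiceSit.syl_not_dvd hT
  Q_le := by
    intro x hx
    have hxV : x ∈ centralizer (V : Set G) := ChoiceSit.o2_le _ hx
    refine ⟨h.CV_le_X hxV, fun r hr => ?_⟩
    -- `r` normalises `V`
    have hrV : r ∈ normalizer (V : Set G) := by
      have hrK : r ∈ KF V F := ⟨d.RC hr, fun u hu => d.wr u hu r hr⟩
      exact KF_norm h hrK
    have h1 : r * x * r⁻¹ ∈ centralizer (V : Set G) := by
      rw [mem_centralizer_iff]
      intro v hv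
      have h2 := (mem_normalizer_iff.1 (inv_mem hrV) v).1 hv
      rw [inv_inv] at h2
      have h3 := mem_centralizer_iff.1 hxV _ h2
      have e1 : v * (r * x * r⁻¹) = r * (r⁻¹ * v * r * x) * r⁻¹ := by group
      have e2 : r * x * r⁻¹ * v = r * (x * (r⁻¹ * v * r)) * r⁻¹ := by group
      rw [e1, e2, h3]
    have e : x⁻¹ * r * x * r⁻¹ = x⁻¹ * (r * x * r⁻¹) := by group
    rw [e]
    exact mul_mem (inv_mem hxV) h1
  Q_two := ChoiceSit.isPGroup_o2 _
  Q_norm := fun x hx => by rw [mem_normalizer_iff_cj, h.cj_O (hSt hx)]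
  A_le := hA
  A_sq := fun a ha w _ => by
    rw [hA2 a ha]
    have e : br (1 : G) w = 1 := by unfold br; group
    rw [e]; exact one_mem _

/-- LEMMA D, the count, for a critical pair -/
theorem ineq (hML : ML.Final.MLK.{u, u}) (hK : IsKGroup (centralizer (F : Set G))) (h : Base V F)
    (d : Dat (centralizer (F : Set G)) F V (UU V F) R) (hT : Syl T (centralizer (F : Set G)))
    (hTS : T ≤ d.St) (hSt : d.St ≤ normalizer (V : Set G)) {g : G}
    (c : Crit V (centralizer (F : Set G)) (OV V) g) (𝓨 : Subgroup G → Prop) {q n : ℕ} (h0 : 𝓨 ⊥)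
    (hs : ∀ Y', 𝓨 Y' → Y' ≤ F → Y' ≠ F → ∃ v Y, 𝓨 Y ∧ Y ≤ F ∧ Y'.relIndex Y = q ∧ Step V R Y' Y v)
    (hq : 2 ≤ q) (hF : Nat.card F = q ^ n) :
    d.CW0.relIndex (cj g (UU V F)) ^ n *
        (centralizer ((cj g (UU V F) : Subgroup G) : Set G)).relIndex (UU V F ⊓ centralizer (R : Set G)) ≤
      (centralizer ((cj g (UU V F) : Subgroup G) : Set G)).relIndex (UU V F) := by
  refine LemD.card_le hML hK (grp h d hT hTS hSt c.le2 fun a ha => ?_) 𝓨 h0 hs hq hF
  have h1 := h.U_sq _ (mem_cj.1 ha)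
  have e : a * a = g * (g⁻¹ * a * g) ^ 2 * g⁻¹ := by rw [pow_two]; group
  rw [e, h1]; group

/-- **`(v1)`** -/
theorem false_of (hML : ML.Final.MLK.{u, u}) (hK : IsKGroup (centralizer (F : Set G))) (h : Base V F)
    (d : Dat (centralizer (F : Set G)) F V (UU V F) R) (hT : Syl T (centralizer (F : Set G)))
    (hTS : T ≤ d.St) (hSt : d.St ≤ normalizer (V : Set G)) (𝓨 : Subgroup G → Prop) {q n : ℕ} (h0 : 𝓨 ⊥)
    (hs : ∀ Y', 𝓨 Y' → Y' ≤ F → Y' ≠ F → ∃ v Y, 𝓨 Y ∧ Y ≤ F ∧ Y'.relIndex Y = q ∧ Step V R Y' Y v)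
    (hq : 2 ≤ q) (hF : Nat.card F = q ^ n) (hn : 2 ≤ n)
    (hN : ∀ g, Crit V (centralizer (F : Set G)) (OV V) g → d.CW0 ⊓ cj g (UU V F) ≤ KF V F) : False := by
  -- `|U^g : U^g ∩ O₂(X)|^n < |U : U ∩ O₂(X)^g| |U^g : U^g ∩ O₂(X)|`
  have key : ∀ g, Crit V (centralizer (F : Set G)) (OV V) g →
      (o2 (centralizer (F : Set G))).relIndex (cj g (UU V F)) ^ 2 <
        (cj g (o2 (centralizer (F : Set G)))).relIndex (UU V F) *
          (o2 (centralizer (F : Set G))).relIndex (cj g (UU V F)) := by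
    intro g c
    refine lt_of_le_of_lt ?_ (CritF.index_lt c h)
    have h1 := ineq hML hK h d hT hTS hSt c 𝓨 h0 hs hq hF
    have h2 : (o2 (centralizer (F : Set G))).relIndex (cj g (UU V F)) ≤ d.CW0.relIndex (cj g (UU V F)) := by
      have h3 : d.CW0 ⊓ cj g (UU V F) ≤ o2 (centralizer (F : Set G)) := by
        refine (le_inf (hN g c) (inf_le_right.trans c.le2)).trans (KF_inf_le h)
      rw [← inf_relIndex_right d.CW0]
      exact relIndex_le_of_le_left h3 index_ne_zero_of_finite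
    have h4 : 0 < (o2 (centralizer (F : Set G))).relIndex (cj g (UU V F)) :=
      Nat.pos_of_ne_zero index_ne_zero_of_finite
    have h5 : 0 < (centralizer ((cj g (UU V F) : Subgroup G) : Set G)).relIndex
        (UU V F ⊓ centralizer (R : Set G)) := Nat.pos_of_ne_zero index_ne_zero_of_finite
    calc (o2 (centralizer (F : Set G))).relIndex (cj g (UU V F)) ^ 2
        ≤ (o2 (centralizer (F : Set G))).relIndex (cj g (UU V F)) ^ n := Nat.pow_le_pow_right h4 hn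
      _ ≤ d.CW0.relIndex (cj g (UU V F)) ^ n := Nat.pow_le_pow_left h2 n
      _ ≤ d.CW0.relIndex (cj g (UU V F)) ^ n * _ := Nat.le_mul_of_pos_right _ h5
      _ ≤ _ := h1
  obtain ⟨g, c⟩ := h.exists_crit
  have h1 := key g c
  have h2 := key g⁻¹ c.inv
  have e1 : (o2 (centralizer (F : Set G))).relIndex (cj g⁻¹ (UU V F)) =
      (cj g (o2 (centralizer (F : Set G)))).relIndex (UU V F) := by
    rw [← relIndex_cj g, cj_cj_inv]
  have e2 : (cj g⁻¹ (o2 (centralizer (F : Set G)))).relIndex (UU V F) =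
      (o2 (centralizer (F : Set G))).relIndex (cj g (UU V F)) := by
    rw [← relIndex_cj g, cj_cj_inv]
  rw [e1, e2] at h2
  nlinarith

end Cfsg.Agent.Omega.NO3b.KFull
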